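import Cfsg.Agent.Lib.PrimTwo.Poles
import Cfsg.Agent.Lib.Char.Clifford
import Cfsg.Agent.Lib.Char.Induced
import Cfsg.Agent.Lib.Char.Integral

/-!
Primitive linear groups of degree two: the centre has index 12, 24 or 60.
-/

set_option autoImplicit false
set_option linter.style.haveILetI false

open scoped Classical

namespace CfsgLib.PrimTwo

open Matrix OnePoint CfsgLib.PSL2Sub

universe u

variable {G : Type u} [Group G]

/-- An irreducible character of a commutative group is linear. -/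
theorem apply_one_of_comm {A : Type u} [Group A] (hA : ∀ a b : A, a * b = b * a) {θ : A → ℂ}
    (hθ : Cfsg.IsIrrCharacter A θ) : θ 1 = 1 := by
  obtain ⟨d, τ, hτ, rfl⟩ := hθ
  have := CharKernel.nontrivial_of_irreducible τ
  obtain ⟨v, hv⟩ := exists_ne (0 : Fin d → ℂ)
  rcases CharKernel.eq_bot_or_eq_top τ (ℂ ∙ v) (fun g w hw => by
    obtain ⟨c, hc⟩ := Char.exists_scalar_of_commute τ (τ g) (fun x => by
      rw [← map_mul, ← map_mul, hA])
    rw [hc]
    exact Submodule.smul_mem _ c hw) with h | h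
  · exact absurd (Submodule.span_singleton_eq_bot.mp h) hv
  · rw [Representation.char_one, ← finrank_top ℂ (Fin d → ℂ), ← h, finrank_span_singleton hv,
      Nat.cast_one]

/-- An irreducible constituent of full degree of an induced character is all of it. -/
theorem indFun_eq_of_degree_eq [Fintype G] (A : Subgroup G) {θ : A → ℂ}
    (hθ : Cfsg.IsCharacter A θ) {χ : G → ℂ} (hχ : Cfsg.IsIrrCharacter G χ)
    (hc : Cfsg.classInner θ (fun a : A => χ a) ≠ 0)
    (hdeg : (A.index : ℂ) * θ 1 = χ 1) : Cfsg.indFun A θ = χ := by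
  have hInd : Cfsg.IsCharacter G (Cfsg.indFun A θ) := Char.IsCharacter.indFun A hθ
  obtain ⟨m, hm⟩ := Char.IsCharacter.exists_nat_combination hInd
  let c0 : Cfsg.IrrCharacter G := ⟨χ, hχ⟩
  have hm0 : m c0 ≠ 0 := by
    intro h0
    apply hc
    rw [← Char.classInner_indFun A θ χ (Char.IsIrrCharacter.isClassFunction hχ), hm]
    show Cfsg.classInner (∑ ψ, (m ψ : ℂ) • (ψ : G → ℂ)) c0 = 0
    rw [Char.classInner_sum_smul_irr, h0, Nat.cast_zero]
  have h1 : Cfsg.indFun A θ 1 = χ 1 := by rw [Char.indFun_apply_one, hdeg]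
  have hsum : ∑ ψ : Cfsg.IrrCharacter G, m ψ * Char.degree (ψ : G → ℂ) =
      Char.degree χ := by
    have h2 : ((∑ ψ : Cfsg.IrrCharacter G, m ψ * Char.degree (ψ : G → ℂ) : ℕ) : ℂ) =
        (Char.degree χ : ℂ) := by
      rw [Char.IsCharacter.degree_cast (Char.IsIrrCharacter.isCharacter hχ), ← h1, hm,
        Nat.cast_sum, Finset.sum_apply]
      refine Finset.sum_congr rfl fun ψ _ => ?_
      rw [Nat.cast_mul, Char.IsCharacter.degree_cast (Char.IsIrrCharacter.isCharacter ψ.2),
        Pi.smul_apply, smul_eq_mul]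
    exact_mod_cast h2
  have hle : m c0 * Char.degree χ ≤ Char.degree χ := hsum ▸
    Finset.single_le_sum (f := fun ψ : Cfsg.IrrCharacter G => m ψ * Char.degree (ψ : G → ℂ))
      (fun _ _ => Nat.zero_le _) (Finset.mem_univ c0)
  have hpos := Char.IsIrrCharacter.degree_pos hχ
  have hm1 : m c0 = 1 := by
    rcases Nat.lt_or_ge (m c0) 2 with h | h
    · omega
    · have := Nat.mul_le_mul_right (Char.degree χ) h
      omega
  have hrest : ∀ ψ, ψ ≠ c0 → m ψ = 0 := by
    intro ψ hne
    have h3 : ∑ x ∈ ({c0, ψ} : Finset (Cfsg.IrrCharacter G)),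
        m x * Char.degree (x : G → ℂ) ≤ Char.degree χ :=
      hsum ▸ Finset.sum_le_sum_of_subset (Finset.subset_univ _)
    rw [Finset.sum_pair (Ne.symm hne), hm1, one_mul] at h3
    have h4 : m ψ * Char.degree (ψ : G → ℂ) = 0 := by
      change Char.degree χ + _ ≤ _ at h3
      omega
    exact (Nat.mul_eq_zero.mp h4).resolve_right (Char.IsIrrCharacter.degree_pos ψ.2).ne'
  rw [hm, Finset.sum_eq_single c0 (fun ψ _ hne => by rw [hrest ψ hne]; simp)
    (fun h => absurd (Finset.mem_univ _) h), hm1]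
  simp [c0]

variable (ρ : Representation ℂ G (Fin 2 → ℂ))

/-- The matrix form of a two-dimensional representation. -/
noncomputable def toGL : G →* GL (Fin 2) ℂ :=
  ((LinearMap.toMatrixAlgEquiv' (R := ℂ) (n := Fin 2)).toMonoidHom.comp ρ).toHomUnits

theorem toGL_mulVec (g : G) (v : Fin 2 → ℂ) :
    ((toGL ρ g : GL (Fin 2) ℂ) : Matrix (Fin 2) (Fin 2) ℂ) *ᵥ v = ρ g v := by
  show LinearMap.toMatrix' (ρ g) *ᵥ v = ρ g v
  exact LinearMap.toMatrix'_mulVec _ _

theorem toGL_injective (hfaith : Function.Injective ρ) : Function.Injective (toGL ρ) := by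
  intro a b h
  refine hfaith (LinearMap.ext fun v => ?_)
  rw [← toGL_mulVec, ← toGL_mulVec, h]

/-- The image in `PGL₂`. -/
noncomputable def toPG : G →* PG ℂ := ProjGenLinGroup.mk.comp (toGL ρ)

theorem ker_toPG [ρ.IsIrreducible] (hfaith : Function.Injective ρ) :
    (toPG ρ).ker = Subgroup.center G := by
  ext g
  rw [MonoidHom.mem_ker, toPG, MonoidHom.comp_apply, ProjGenLinGroup.mk_eq_one,
    Subgroup.mem_center_iff]
  constructor
  · intro h
    refine Subgroup.mem_center_iff.mpr fun x => toGL_injective ρ hfaith ?_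
    rw [map_mul, map_mul]
    exact h _
  · intro h
    obtain ⟨c, hc⟩ := Char.exists_scalar_of_commute ρ (ρ g) (fun x => by
      rw [← map_mul, ← map_mul, Subgroup.mem_center_iff.mp h x])
    have hmat : ((toGL ρ g : GL (Fin 2) ℂ) : Matrix (Fin 2) (Fin 2) ℂ) = c • 1 := by
      refine Matrix.ext_of_mulVec_single fun i => ?_
      rw [toGL_mulVec, hc, Matrix.smul_mulVec, Matrix.one_mulVec, LinearMap.smul_apply,
        Module.End.one_apply]
    refine fun x => Units.ext ?_
    rw [Units.val_mul, Units.val_mul, hmat]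
    simp

/-- If all projective images fix a point there is an invariant line. -/
theorem false_of_fixed [ρ.IsIrreducible] (x : OnePoint ℂ)
    (hx : ∀ g : G, toPG ρ g • x = x) : False := by
  obtain ⟨γ', rfl⟩ := exists_smul_infty x
  obtain ⟨γ, rfl⟩ := ProjGenLinGroup.mk_surjective γ'
  set v : Fin 2 → ℂ := (γ : Matrix (Fin 2) (Fin 2) ℂ) *ᵥ Pi.single 0 1 with hv
  have hv0 : v ≠ 0 := by
    intro h0
    have h1 := congrArg (fun w => ((γ⁻¹ : GL (Fin 2) ℂ) : Matrix (Fin 2) (Fin 2) ℂ) *ᵥ w) h0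
    simp only [hv, Matrix.mulVec_mulVec, Matrix.mulVec_zero] at h1
    rw [← Units.val_mul, inv_mul_cancel, Units.val_one, Matrix.one_mulVec] at h1
    exact one_ne_zero (α := ℂ) (by simpa using congrFun h1 0)
  rcases CharKernel.eq_bot_or_eq_top ρ (ℂ ∙ v) (fun g w hw => by
    obtain ⟨s, rfl⟩ := Submodule.mem_span_singleton.mp hw
    rw [_root_.map_smul]
    refine Submodule.smul_mem _ s ?_
    set h : GL (Fin 2) ℂ := γ⁻¹ * toGL ρ g * γ with hh
    have h10 : h 1 0 = 0 := by
      rw [← smul_infty_eq_self_iff, hh, mul_smul, mul_smul, inv_smul_eq_iff]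
      exact hx g
    have hcol : (h : Matrix (Fin 2) (Fin 2) ℂ) *ᵥ Pi.single 0 1 = h 0 0 • Pi.single 0 1 := by
      ext i
      fin_cases i <;> simp [h10]
    have hgv : ρ g v = h 0 0 • v := by
      rw [← toGL_mulVec, hv, Matrix.mulVec_mulVec, ← Units.val_mul,
        show toGL ρ g * γ = γ * h by rw [hh]; group, Units.val_mul, ← Matrix.mulVec_mulVec, hcol,
        Matrix.mulVec_smul]
    rw [hgv]
    exact Submodule.smul_mem _ _ (Submodule.mem_span_singleton_self v)) with h | h
  · exact hv0 (Submodule.span_singleton_eq_bot.mp h)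
  · have h1 : Module.finrank ℂ (Fin 2 → ℂ) = 1 := by
      rw [← finrank_top ℂ (Fin 2 → ℂ), ← h, finrank_span_singleton hv0]
    simp at h1

/-- Elements fixing two distinct points commute. -/
theorem comm_of_two_fixed (hfaith : Function.Injective ρ) {x y : OnePoint ℂ} (hxy : x ≠ y)
    {a b : G} (hax : toPG ρ a • x = x) (hay : toPG ρ a • y = y) (hbx : toPG ρ b • x = x)
    (hby : toPG ρ b • y = y) : a * b = b * a := by
  obtain ⟨γ', rfl, rfl⟩ := exists_smul_infty_zero hxy
  obtain ⟨γ, rfl⟩ := ProjGenLinGroup.mk_surjective γ'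
  have key : ∀ g : G, toPG ρ g • ProjGenLinGroup.mk γ • (∞ : OnePoint ℂ) =
      ProjGenLinGroup.mk γ • ∞ →
      toPG ρ g • ProjGenLinGroup.mk γ • ((0 : ℂ) : OnePoint ℂ) =
        ProjGenLinGroup.mk γ • ((0 : ℂ) : OnePoint ℂ) →
      ∀ h : GL (Fin 2) ℂ, h = γ⁻¹ * toGL ρ g * γ → h 1 0 = 0 ∧ h 0 1 = 0 := by
    intro g h1 h2 h hh
    subst hh
    have h10 : (γ⁻¹ * toGL ρ g * γ) 1 0 = 0 := by
      rw [← smul_infty_eq_self_iff, mul_smul, mul_smul, inv_smul_eq_iff]
      exact h1
    refine ⟨h10, ?_⟩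
    have h3 : (γ⁻¹ * toGL ρ g * γ) • ((0 : ℂ) : OnePoint ℂ) = ((0 : ℂ) : OnePoint ℂ) := by
      rw [mul_smul, mul_smul, inv_smul_eq_iff]
      exact h2
    rw [smul_some_eq_ite] at h3
    split_ifs at h3 with hden
    · exact absurd h3 (OnePoint.infty_ne_coe _)
    · rw [OnePoint.coe_eq_coe, div_eq_iff hden, zero_mul, mul_zero, zero_add] at h3
      exact h3
  obtain ⟨ha1, ha2⟩ := key a hax hay _ rfl
  obtain ⟨hb1, hb2⟩ := key b hbx hby _ rfl
  refine toGL_injective ρ hfaith ?_
  have hdiag : ∀ p q : GL (Fin 2) ℂ, p 1 0 = 0 → p 0 1 = 0 → q 1 0 = 0 → q 0 1 = 0 →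
      p * q = q * p := by
    intro p q p1 p2 q1 q2
    refine Units.ext ?_
    ext i j
    fin_cases i <;> fin_cases j <;>
      simp [Matrix.mul_apply, Fin.sum_univ_two, p1, p2, q1, q2, mul_comm]
  have hc := hdiag _ _ ha1 ha2 hb1 hb2
  rw [map_mul, map_mul]
  calc toGL ρ a * toGL ρ b
      = γ * ((γ⁻¹ * toGL ρ a * γ) * (γ⁻¹ * toGL ρ b * γ)) * γ⁻¹ := by group
    _ = γ * ((γ⁻¹ * toGL ρ b * γ) * (γ⁻¹ * toGL ρ a * γ)) * γ⁻¹ := by rw [hc]
    _ = toGL ρ b * toGL ρ a := by group

/-- Primitive linear groups of degree two. -/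
theorem center_index [Fintype G] (χ : Cfsg.IrrCharacter G)
    (hfaith : ∀ g : G, (χ : G → ℂ) g = (χ : G → ℂ) 1 → g = 1)
    (h2 : (χ : G → ℂ) 1 = 2)
    (hprim : ∀ H : Subgroup G, H ≠ ⊤ → ∀ θ : H → ℂ, Cfsg.IsCharacter H θ →
      (χ : G → ℂ) ≠ Cfsg.indFun H θ) :
    (Subgroup.center G).index = 12 ∨ (Subgroup.center G).index = 24 ∨
      (Subgroup.center G).index = 60 := by
  obtain ⟨χ, n, ρ, hρ, rfl⟩ := χ
  change ρ.character 1 = 2 at h2
  rw [Representation.char_one, Module.finrank_fin_fun] at h2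
  have hn : n = 2 := by exact_mod_cast h2
  subst hn
  have hinj : Function.Injective ρ := by
    intro a b h
    refine (inv_mul_eq_one.mp (hfaith (a⁻¹ * b) ?_))
    simp only [Representation.character]
    rw [map_mul, ← h, ← map_mul, inv_mul_cancel]
  rw [← ker_toPG ρ hinj, Subgroup.index_ker]
  haveI : Finite (toPG ρ).range := Finite.of_surjective _ (toPG ρ).rangeRestrict_surjective
  set H := (toPG ρ).range with hH
  rcases pole_trichotomy H with ⟨x, hx⟩ | ⟨x, hx⟩ | h
  · exact (false_of_fixed ρ x fun g => hx ⟨toPG ρ g, g, rfl⟩).elim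
  · exfalso
    haveI := finite_orbit H x
    obtain ⟨u, w, huw, huniv⟩ := Nat.card_eq_two_iff.mp hx
    have hS : (MulAction.stabilizer H x).index = 2 := by
      rw [Subgroup.index_eq_card, ← Nat.card_congr (MulAction.orbitEquivQuotientStabilizer H x)]
      exact hx
    haveI : (MulAction.stabilizer H x).Normal := Subgroup.normal_of_index_eq_two hS
    obtain ⟨y, hyx, t, ht⟩ : ∃ y : OnePoint ℂ, y ≠ x ∧ ∃ t : H, t • x = y := by
      by_contra hne
      have hall : ∀ z : MulAction.orbit H x, (z : OnePoint ℂ) = x := by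
        intro z
        by_contra hz
        obtain ⟨t, ht⟩ := z.2
        exact hne ⟨z, hz, t, ht⟩
      exact huw (Subtype.ext ((hall u).trans (hall w).symm))
    obtain ⟨A, hA, hfix⟩ : ∃ A : Subgroup G, A.index = 2 ∧
        ∀ a ∈ A, toPG ρ a • x = x ∧ toPG ρ a • y = y := by
      refine ⟨(MulAction.stabilizer H x).comap (toPG ρ).rangeRestrict,
        by rw [Subgroup.index_comap_of_surjective _ (toPG ρ).rangeRestrict_surjective, hS],
        fun a ha => ?_⟩
      have ha' : (toPG ρ).rangeRestrict a • x = x := ha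
      refine ⟨ha', ?_⟩
      have h3 : (t⁻¹ * (toPG ρ).rangeRestrict a * t⁻¹⁻¹) • x = x :=
        Subgroup.Normal.conj_mem (H := MulAction.stabilizer H x) inferInstance
          ((toPG ρ).rangeRestrict a) ha t⁻¹
      rw [inv_inv, mul_smul, mul_smul, inv_smul_eq_iff, ht] at h3
      exact h3
    haveI : A.Normal := Subgroup.normal_of_index_eq_two hA
    have hχ : Cfsg.IsIrrCharacter G ρ.character := ⟨2, ρ, hρ, rfl⟩
    obtain ⟨θ, hθ, hθc⟩ := Clifford.exists_constituent_res A hχ
    have hcomm : ∀ a b : A, a * b = b * a := by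
      intro a b
      have key := comm_of_two_fixed ρ hinj hyx.symm (hfix _ a.2).1 (hfix _ a.2).2 (hfix _ b.2).1
        (hfix _ b.2).2
      exact Subtype.ext key
    have hθ1 : θ 1 = 1 := apply_one_of_comm hcomm hθ
    refine hprim A (fun htop => ?_) θ (Char.IsIrrCharacter.isCharacter hθ)
      (indFun_eq_of_degree_eq A (Char.IsIrrCharacter.isCharacter hθ) hχ (fun h0 => hθc ?_) ?_).symm
    · rw [htop, Subgroup.index_top] at hA
      omega
    · rw [← Char.classInner_conj_symm, h0, map_zero]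
    · rw [hA, hθ1, Representation.char_one, Module.finrank_fin_fun]
      norm_num
  · exact h

end CfsgLib.PrimTwo
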