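import Cfsg.Agent.Lib.PSL2Sub.Classify
import Mathlib

/-!
Finite subgroups of `PGL₂` over an algebraically closed field of characteristic zero: they fix a
point, have an orbit of size two, or have order 12, 24 or 60.
-/

set_option autoImplicit false
set_option linter.unusedSectionVars false
set_option linter.style.haveILetI false

namespace CfsgLib.PrimTwo

open Matrix OnePoint CfsgLib.PSL2Sub

variable {k : Type*} [Field k] [DecidableEq k] [IsAlgClosed k] [CharZero k]
  (H : Subgroup (PG k)) [Finite H]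

/-- A nontrivial element of finite order fixes exactly two points. -/
theorem exists_two_fixed {h : PG k} (h1 : h ≠ 1) (hfin : IsOfFinOrder h) :
    ∃ x y : OnePoint k, x ≠ y ∧ h • x = x ∧ h • y = y := by
  obtain ⟨x, hx⟩ := exists_fixed h
  obtain ⟨g, rfl⟩ := exists_smul_infty x
  obtain ⟨a, b, hab⟩ := exists_aff_of_fix_infty (g := g⁻¹ * h * g)
    (by rw [mul_smul, mul_smul, hx, inv_smul_smul])
  by_cases ha : (a : k) = 1
  · exfalso
    have ha' : a = 1 := Units.ext ha
    subst ha'
    obtain ⟨n, hn, hpow⟩ := isOfFinOrder_iff_pow_eq_one.mp hfin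
    have h2 : aff (1 : kˣ) b ^ n = aff 1 0 := by
      rw [← hab, aff_one_zero]
      calc (g⁻¹ * h * g) ^ n = g⁻¹ * h ^ n * g⁻¹⁻¹ := by rw [← conj_pow, inv_inv]
        _ = 1 := by simp [hpow]
    rw [aff_translation_pow] at h2
    have hb : b = 0 := (mul_eq_zero.mp (aff_injective h2).2).resolve_left
      (Nat.cast_ne_zero.mpr hn.ne')
    rw [hb, aff_one_zero] at hab
    exact h1 (by simpa [mul_assoc, inv_mul_eq_one, eq_comm] using hab)
  · refine ⟨g • ∞, g • ((b / (1 - (a : k)) : k) : OnePoint k), ?_, hx, ?_⟩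
    · exact fun e => OnePoint.infty_ne_coe _ (MulAction.injective g e)
    · have h3 : (g⁻¹ * h * g) • ((b / (1 - (a : k)) : k) : OnePoint k) =
          ((b / (1 - (a : k)) : k) : OnePoint k) := by
        rw [hab, aff_smul_coe]
        congr 1
        have : (1 : k) - a ≠ 0 := sub_ne_zero.mpr (Ne.symm ha)
        field_simp
        ring
      rw [mul_smul, mul_smul, inv_smul_eq_iff] at h3
      exact h3

theorem card_fixedBy_eq_two {h : H} (h1 : h ≠ 1) :
    Nat.card (MulAction.fixedBy (fixedPts H) h) = 2 := by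
  have h1' : (h : PG k) ≠ 1 := fun e => h1 (Subtype.ext e)
  have e : MulAction.fixedBy (fixedPts H) h ≃ {x : OnePoint k // (h : PG k) • x = x} :=
    { toFun := fun x => ⟨x.1.1, congrArg Subtype.val x.2⟩
      invFun := fun x => ⟨⟨x.1, h, h1, x.2⟩, Subtype.ext x.2⟩
      left_inv := fun _ => rfl
      right_inv := fun _ => rfl }
  rw [Nat.card_congr e]
  obtain ⟨x, y, hxy, hx, hy⟩ := exists_two_fixed h1'
    (Submonoid.isOfFinOrder_coe.mpr (isOfFinOrder_of_finite h))
  rw [Nat.card_eq_two_iff]
  refine ⟨⟨x, hx⟩, ⟨y, hy⟩, fun e => hxy (congrArg Subtype.val e), ?_⟩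
  ext z
  simp only [Set.mem_insert_iff, Set.mem_singleton_iff, Set.mem_univ, iff_true, Subtype.ext_iff]
  exact fixed_eq_or h1' hxy hx hy z.2

/-- The orbit counting equation. -/
theorem counting_eq :
    Nat.card (fixedPts H) + 2 * Nat.card H =
      Nat.card (Quotient (MulAction.orbitRel H (fixedPts H))) * Nat.card H + 2 := by
  classical
  letI := Fintype.ofFinite H
  letI := Fintype.ofFinite (fixedPts H)
  letI : ∀ h : H, Fintype (MulAction.fixedBy (fixedPts H) h) := fun _ => Fintype.ofFinite _
  letI : Fintype (Quotient (MulAction.orbitRel H (fixedPts H))) := Fintype.ofFinite _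
  have hb := MulAction.sum_card_fixedBy_eq_card_orbits_mul_card_group H (fixedPts H)
  simp only [← Nat.card_eq_fintype_card] at hb
  have h1 : MulAction.fixedBy (fixedPts H) (1 : H) = Set.univ := by
    ext x; simp
  rw [← Finset.add_sum_erase _ _ (Finset.mem_univ (1 : H)), h1, Nat.card_univ,
    Finset.sum_congr rfl (fun h hh => card_fixedBy_eq_two H (Finset.ne_of_mem_erase hh)),
    Finset.sum_const, Finset.card_erase_of_mem (Finset.mem_univ _), Finset.card_univ,
    smul_eq_mul, ← Nat.card_eq_fintype_card] at hb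
  have : 0 < Nat.card H := Nat.card_pos
  omega

/-- A fixed point, an orbit of size two, or one of the orders 12, 24, 60. -/
theorem pole_trichotomy :
    (∃ x : OnePoint k, ∀ h : H, (h : PG k) • x = x) ∨
      (∃ x : OnePoint k, Nat.card (MulAction.orbit H x) = 2) ∨
      Nat.card H = 12 ∨ Nat.card H = 24 ∨ Nat.card H = 60 := by
  classical
  letI : Fintype (Quotient (MulAction.orbitRel H (fixedPts H))) := Fintype.ofFinite _
  have hcnt := counting_eq H
  rw [card_fixedPts_eq_sum H] at hcnt
  set r := Nat.card (Quotient (MulAction.orbitRel H (fixedPts H))) with hr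
  set o := fun q : Quotient (MulAction.orbitRel H (fixedPts H)) =>
    Nat.card (MulAction.orbit H (q.out : OnePoint k)) with ho
  set e := fun q : Quotient (MulAction.orbitRel H (fixedPts H)) =>
    Nat.card (stab H (q.out : OnePoint k)) with he
  have hoe : ∀ q, o q * e q = Nat.card H := fun q => card_stab_mul H _
  have he2 : ∀ q, 2 ≤ e q := fun q => (orbit_facts H q.out).2
  have hg : 0 < Nat.card H := Nat.card_pos
  change (∑ q, o q) + 2 * Nat.card H = r * Nat.card H + 2 at hcnt
  have hpos : ∀ q, 0 < o q := fun q => Nat.pos_of_ne_zero fun h0 => by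
    have := hoe q
    rw [h0, zero_mul] at this
    omega
  have hbound : 2 * ∑ q, o q ≤ r * Nat.card H := by
    rw [Finset.mul_sum, hr, Nat.card_eq_fintype_card, ← Finset.card_univ, ← smul_eq_mul,
      ← Finset.sum_const]
    refine Finset.sum_le_sum fun q _ => ?_
    calc 2 * o q = o q * 2 := mul_comm _ _
      _ ≤ o q * e q := Nat.mul_le_mul_left _ (he2 q)
      _ = _ := hoe q
  have hr3 : r ≤ 3 := by
    by_contra hne
    have : 4 * Nat.card H ≤ r * Nat.card H := Nat.mul_le_mul_right _ (by omega)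
    omega
  rcases (show r = 0 ∨ r = 1 ∨ r = 2 ∨ r = 3 by omega) with h | h | h | h
  · haveI : IsEmpty (Quotient (MulAction.orbitRel H (fixedPts H))) :=
      Finite.card_eq_zero_iff.mp h
    rw [h, Finset.univ_eq_empty, Finset.sum_empty] at hcnt
    haveI : Subsingleton H := Finite.card_le_one_iff_subsingleton.mp (by omega)
    exact Or.inl ⟨∞, fun h => by
      rw [show h = 1 from Subsingleton.elim _ _]
      exact one_smul _ _⟩
  · rw [h] at hcnt hbound
    obtain ⟨q⟩ := (Nat.card_ne_zero.mp (by omega :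
      Nat.card (Quotient (MulAction.orbitRel H (fixedPts H))) ≠ 0)).1
    have := hpos q
    have h2 : o q ≤ ∑ q, o q := Finset.single_le_sum (fun _ _ => Nat.zero_le _) (Finset.mem_univ q)
    omega
  · obtain ⟨q₁, q₂, hne, huniv⟩ := Nat.card_eq_two_iff.mp h
    have hu : (Finset.univ : Finset (Quotient (MulAction.orbitRel H (fixedPts H)))) = {q₁, q₂} := by
      ext q
      have := huniv.ge (Set.mem_univ q)
      simpa using this
    rw [h, hu, Finset.sum_pair hne] at hcnt
    have := hpos q₁
    have := hpos q₂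
    have h1 : o q₁ = 1 := by omega
    haveI := finite_orbit H (q₁.out : OnePoint k)
    haveI : Subsingleton (MulAction.orbit H (q₁.out : OnePoint k)) :=
      Finite.card_le_one_iff_subsingleton.mp h1.le
    exact Or.inl ⟨q₁.out, fun h => congrArg Subtype.val (Subsingleton.elim
        (⟨h • (q₁.out : OnePoint k), h, rfl⟩ : MulAction.orbit H (q₁.out : OnePoint k))
        ⟨_, MulAction.mem_orbit_self _⟩)⟩
  · let eqv : Fin 3 ≃ Quotient (MulAction.orbitRel H (fixedPts H)) :=
      (Finite.equivFinOfCardEq h).symm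
    let σ : Fin 3 ≃ Quotient (MulAction.orbitRel H (fixedPts H)) :=
      (Tuple.sort (e ∘ eqv)).trans eqv
    have hmono : Monotone (e ∘ σ) := Tuple.monotone_sort (e ∘ eqv)
    have hsum : ∑ q, o q = o (σ 0) + o (σ 1) + o (σ 2) := by
      rw [← σ.sum_comp, Fin.sum_univ_three]
    rw [h, hsum] at hcnt
    obtain ⟨-, hcases⟩ := arith_three (hoe (σ 0)) (hoe (σ 1)) (hoe (σ 2)) (he2 _)
      (hmono (show (0 : Fin 3) ≤ 1 by decide)) (hmono (show (1 : Fin 3) ≤ 2 by decide))
      (show o (σ 0) + o (σ 1) + o (σ 2) = Nat.card H + 2 by omega)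
    rcases hcases with ⟨-, h2, -⟩ | ⟨h1, -, -⟩ | ⟨h1, -, -⟩ | ⟨h1, -, -⟩
    · exact Or.inr (Or.inl ⟨_, h2⟩)
    · exact Or.inr (Or.inr (Or.inl h1))
    · exact Or.inr (Or.inr (Or.inr (Or.inl h1)))
    · exact Or.inr (Or.inr (Or.inr (Or.inr h1)))

end CfsgLib.PrimTwo
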